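import Mathlib

/-!
Quasi-homeomorphisms, very dense subsets and locally quasi-constructible sets.
-/

set_option autoImplicit false
universe u v

open Topology TopologicalSpace Set

namespace Groth.Agent.QHomeoLib

variable {X : Type u} [TopologicalSpace X] {Y : Type v} [TopologicalSpace Y]

/-- Finite union of locally closed sets. -/
def IsQC (Z : Set X) : Prop := ∃ T : Set (Set X), T.Finite ∧ (∀ t ∈ T, IsLocallyClosed t) ∧ Z = ⋃₀ T

/-- Locally quasi-constructible. -/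
def IsLQC (Z : Set X) : Prop :=
  ∀ x : X, ∃ U : Set X, IsOpen U ∧ x ∈ U ∧ ∃ T : Set (Set X), T.Finite ∧ (∀ t ∈ T, IsLocallyClosed t) ∧ U ∩ Z = ⋃₀ T

theorem isLQC_iff {Z : Set X} : IsLQC Z ↔ ∀ x : X, ∃ U : Set X, IsOpen U ∧ x ∈ U ∧ IsQC (U ∩ Z) := Iff.rfl

theorem isQC_of_isLocallyClosed {Z : Set X} (h : IsLocallyClosed Z) : IsQC Z :=
  ⟨{Z}, finite_singleton Z, fun t ht => by rw [mem_singleton_iff.1 ht]; exact h, (sUnion_singleton Z).symm⟩

theorem isQC_empty : IsQC (∅ : Set X) := ⟨∅, finite_empty, fun _ h => h.elim, sUnion_empty.symm⟩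

theorem IsQC.union {A B : Set X} (hA : IsQC A) (hB : IsQC B) : IsQC (A ∪ B) := by
  obtain ⟨S, hS, hS', rfl⟩ := hA
  obtain ⟨T, hT, hT', rfl⟩ := hB
  exact ⟨S ∪ T, hS.union hT, fun t ht => ht.elim (hS' t) (hT' t), (sUnion_union S T).symm⟩

theorem IsQC.inter {A B : Set X} (hA : IsQC A) (hB : IsQC B) : IsQC (A ∩ B) := by
  obtain ⟨S, hS, hS', rfl⟩ := hA
  obtain ⟨T, hT, hT', rfl⟩ := hB
  refine ⟨image2 (· ∩ ·) S T, hS.image2 _ hT, ?_, ?_⟩
  · rintro _ ⟨s, hs, t, ht, rfl⟩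
    exact (hS' s hs).inter (hT' t ht)
  · ext x
    constructor
    · rintro ⟨⟨s, hs, hxs⟩, t, ht, hxt⟩
      exact ⟨s ∩ t, mem_image2_of_mem hs ht, hxs, hxt⟩
    · rintro ⟨_, ⟨s, hs, t, ht, rfl⟩, hxs, hxt⟩
      exact ⟨⟨s, hs, hxs⟩, t, ht, hxt⟩

theorem IsQC.compl {A : Set X} (hA : IsQC A) : IsQC Aᶜ := by
  obtain ⟨T, hT, hT', rfl⟩ := hA
  induction T, hT using Set.Finite.induction_on with
  | empty => simpa using isQC_of_isLocallyClosed isOpen_univ.isLocallyClosed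
  | @insert a s _ _ ih =>
    rw [sUnion_insert, compl_union]
    refine IsQC.inter ?_ (ih fun t ht => hT' t (mem_insert_of_mem _ ht))
    obtain ⟨U, F, hU, hF, rfl⟩ := hT' a (mem_insert a s)
    rw [compl_inter]
    exact (isQC_of_isLocallyClosed hU.isClosed_compl.isLocallyClosed).union
      (isQC_of_isLocallyClosed hF.isOpen_compl.isLocallyClosed)

theorem IsQC.preimage {f : X → Y} (hf : Continuous f) {A : Set Y} (hA : IsQC A) : IsQC (f ⁻¹' A) := by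
  obtain ⟨T, hT, hT', rfl⟩ := hA
  refine ⟨(f ⁻¹' ·) '' T, hT.image _, ?_, ?_⟩
  · rintro _ ⟨t, ht, rfl⟩
    exact (hT' t ht).preimage hf
  · rw [preimage_sUnion, sUnion_image]

theorem IsQC.isLQC {A : Set X} (hA : IsQC A) : IsLQC A :=
  fun _ => ⟨univ, isOpen_univ, mem_univ _, by rw [univ_inter]; exact hA⟩

theorem isLQC_of_isOpen {A : Set X} (hA : IsOpen A) : IsLQC A := (isQC_of_isLocallyClosed hA.isLocallyClosed).isLQC

theorem IsLQC.preimage {f : X → Y} (hf : Continuous f) {A : Set Y} (hA : IsLQC A) : IsLQC (f ⁻¹' A) := fun x => by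
  obtain ⟨U, hU, hxU, h⟩ := hA (f x)
  exact ⟨f ⁻¹' U, hU.preimage hf, hxU, (preimage_inter (f := f) (s := U) (t := A)) ▸ IsQC.preimage hf h⟩

theorem IsLQC.inter {A B : Set X} (hA : IsLQC A) (hB : IsLQC B) : IsLQC (A ∩ B) := fun x => by
  obtain ⟨U, hU, hxU, h⟩ := hA x
  obtain ⟨V, hV, hxV, h'⟩ := hB x
  refine ⟨U ∩ V, hU.inter hV, ⟨hxU, hxV⟩, ?_⟩
  rw [inter_inter_inter_comm]
  exact IsQC.inter h h'

theorem IsLQC.compl {A : Set X} (hA : IsLQC A) : IsLQC Aᶜ := fun x => by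
  obtain ⟨U, hU, hxU, h⟩ := hA x
  refine ⟨U, hU, hxU, ?_⟩
  rw [show U ∩ Aᶜ = U ∩ (U ∩ A)ᶜ by ext; simp +contextual]
  exact (isQC_of_isLocallyClosed hU.isLocallyClosed).inter (IsQC.compl h)

theorem IsLQC.exists_locallyClosed {A : Set X} (hA : IsLQC A) {x : X} (hx : x ∈ A) :
    ∃ t, IsLocallyClosed t ∧ x ∈ t ∧ t ⊆ A := by
  obtain ⟨U, -, hxU, T, -, hT, hUA⟩ := hA x
  obtain ⟨t, ht, hxt⟩ := hUA.subset ⟨hxU, hx⟩
  exact ⟨t, hT t ht, hxt, fun y hy => (hUA.superset ⟨t, ht, hy⟩).2⟩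

/-- Preimage is injective on open sets. -/
def IsDenseQ (f : X → Y) : Prop := ∀ U V : Set Y, IsOpen U → IsOpen V → f ⁻¹' U = f ⁻¹' V → U = V

/-- Preimage is bijective on open sets. -/
def IsQH (f : X → Y) : Prop := IsDenseQ f ∧ ∀ V : Set X, IsOpen V → ∃ U : Set Y, IsOpen U ∧ f ⁻¹' U = V

theorem isQH_iff_bijective {f : X → Y} (hf : Continuous f) :
    IsQH f ↔ Function.Bijective (fun U : Opens Y => (⟨f ⁻¹' (U : Set Y), U.isOpen.preimage hf⟩ : Opens X)) := by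
  constructor
  · rintro ⟨hi, hs⟩
    refine ⟨fun U V h => Opens.ext (hi U V U.2 V.2 (congrArg SetLike.coe h)), fun V => ?_⟩
    obtain ⟨U, hU, h⟩ := hs V V.2
    exact ⟨⟨U, hU⟩, Opens.ext h⟩
  · rintro ⟨hi, hs⟩
    refine ⟨fun U V hU hV h => congrArg SetLike.coe (hi (a₁ := ⟨U, hU⟩) (a₂ := ⟨V, hV⟩) (Opens.ext h)), fun V hV => ?_⟩
    obtain ⟨U, h⟩ := hs ⟨V, hV⟩
    exact ⟨U, U.2, congrArg SetLike.coe h⟩

theorem IsDenseQ.nonempty_preimage {f : X → Y} (h : IsDenseQ f) {Z : Set Y} (hZ : IsLQC Z) (hne : Z.Nonempty) :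
    (f ⁻¹' Z).Nonempty := by
  obtain ⟨z, hz⟩ := hne
  obtain ⟨t, ⟨U, F, hU, hF, rfl⟩, hzt, hsub⟩ := hZ.exists_locallyClosed hz
  by_contra hemp
  rw [not_nonempty_iff_eq_empty] at hemp
  have hq : U ∩ Fᶜ = U := h _ _ (hU.inter hF.isOpen_compl) hU (by
    ext x
    exact ⟨And.left, fun hx => ⟨hx, fun hxF => (eq_empty_iff_forall_notMem.1 hemp) x (hsub ⟨hx, hxF⟩)⟩⟩)
  exact (hq.superset hzt.1).2 hzt.2

theorem IsDenseQ.subset_of_preimage_subset {f : X → Y} (h : IsDenseQ f) {A B : Set Y} (hA : IsLQC A) (hB : IsLQC B)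
    (hsub : f ⁻¹' A ⊆ f ⁻¹' B) : A ⊆ B := by
  by_contra hn
  obtain ⟨y, hy, hy'⟩ := not_subset.1 hn
  obtain ⟨x, hxA, hxB⟩ := h.nonempty_preimage (hA.inter hB.compl) ⟨y, hy, hy'⟩
  exact hxB (hsub hxA)

theorem IsDenseQ.eq_of_preimage_eq {f : X → Y} (h : IsDenseQ f) {A B : Set Y} (hA : IsLQC A) (hB : IsLQC B)
    (he : f ⁻¹' A = f ⁻¹' B) : A = B :=
  (h.subset_of_preimage_subset hA hB he.subset).antisymm (h.subset_of_preimage_subset hB hA he.superset)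

theorem IsQH.restrict {f : X → Y} (h : IsQH f) {Y' : Set Y} (hY' : IsLQC Y') : IsQH (Y'.restrictPreimage f) := by
  refine ⟨fun U V hU hV he => ?_, fun V hV => ?_⟩
  · obtain ⟨O, hO, rfl⟩ := hU
    obtain ⟨O', hO', rfl⟩ := hV
    have := h.1.eq_of_preimage_eq ((isLQC_of_isOpen hO).inter hY') ((isLQC_of_isOpen hO').inter hY') (by
      ext x
      constructor
      · rintro ⟨hx, hx'⟩; exact ⟨(Set.ext_iff.1 he ⟨x, hx'⟩).1 hx, hx'⟩
      · rintro ⟨hx, hx'⟩; exact ⟨(Set.ext_iff.1 he ⟨x, hx'⟩).2 hx, hx'⟩)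
    ext ⟨y, hy⟩
    exact ⟨fun hyO => (this.subset ⟨hyO, hy⟩).1, fun hyO => (this.superset ⟨hyO, hy⟩).1⟩
  · obtain ⟨O, hO, rfl⟩ := hV
    obtain ⟨O', hO', rfl⟩ := h.2 O hO
    exact ⟨Subtype.val ⁻¹' O', hO'.preimage continuous_subtype_val, rfl⟩

theorem IsQH.isCompact_preimage_iff {f : X → Y} (h : IsQH f) (hf : Continuous f) {Y' : Set Y} (hY' : IsLQC Y') :
    IsCompact (f ⁻¹' Y') ↔ IsCompact Y' := by
  refine ⟨fun hc => isCompact_of_finite_subcover fun {ι} U hU hcov => ?_, fun hc => isCompact_of_finite_subcover fun {ι} V hV hcov => ?_⟩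
  · obtain ⟨t, ht⟩ := hc.elim_finite_subcover (fun i => f ⁻¹' U i) (fun i => (hU i).preimage hf)
      (fun x hx => by rw [← preimage_iUnion]; exact hcov hx)
    refine ⟨t, h.1.subset_of_preimage_subset hY' (isLQC_of_isOpen (isOpen_biUnion fun i _ => hU i)) ?_⟩
    rw [preimage_iUnion₂]; exact ht
  · choose U hU hUV using fun i => h.2 (V i) (hV i)
    have hsub : Y' ⊆ ⋃ i, U i := h.1.subset_of_preimage_subset hY' (isLQC_of_isOpen (isOpen_iUnion hU))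
      (by rw [preimage_iUnion]; simpa only [hUV] using hcov)
    obtain ⟨t, ht⟩ := hc.elim_finite_subcover U hU hsub
    refine ⟨t, ?_⟩
    have := preimage_mono (f := f) ht
    rw [preimage_iUnion₂] at this
    simpa only [hUV] using this

theorem IsQH.noetherianSpace_iff {f : X → Y} (h : IsQH f) (hf : Continuous f) :
    NoetherianSpace X ↔ NoetherianSpace Y := by
  rw [noetherianSpace_iff_opens, noetherianSpace_iff_opens]
  constructor
  · intro hX U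
    refine (h.isCompact_preimage_iff hf (isLQC_of_isOpen U.2)).1 ?_
    exact hX ⟨f ⁻¹' U, U.2.preimage hf⟩
  · intro hY V
    obtain ⟨U, hU, hUV⟩ := h.2 V V.2
    rw [← hUV, h.isCompact_preimage_iff hf (isLQC_of_isOpen hU)]
    exact hY ⟨U, hU⟩

/-- Glue subsets defined on the members of an open covering. -/
theorem IsQH.exists_glue {f : X → Y} (h : IsQH f) {Z : Set X} {ι : Type*} (O : ι → Set Y) (W : ι → Set Y)
    (hO : ∀ i, IsOpen (O i)) (hWO : ∀ i, W i ⊆ O i) (hW : ∀ i, IsLQC (W i)) (hZ : ∀ i, f ⁻¹' W i = Z ∩ f ⁻¹' O i)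
    (hcov : ∀ x, ∃ i, f x ∈ O i) :
    (∀ i, (⋃ j, W j) ∩ O i = W i) ∧ f ⁻¹' (⋃ j, W j) = Z ∧ (⋃ i, O i) = univ := by
  refine ⟨fun i => subset_antisymm ?_ fun y hy => ⟨mem_iUnion.2 ⟨i, hy⟩, hWO i hy⟩, ?_, ?_⟩
  · rintro y ⟨hy, hyi⟩
    obtain ⟨j, hyj⟩ := mem_iUnion.1 hy
    refine h.1.subset_of_preimage_subset ((hW j).inter (isLQC_of_isOpen (hO i))) (hW i) ?_ ⟨hyj, hyi⟩
    rintro x ⟨hx1, hx2⟩
    exact (hZ i).superset ⟨((hZ j).subset hx1).1, hx2⟩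
  · ext x
    constructor
    · intro hx
      obtain ⟨j, hj⟩ := mem_iUnion.1 (show f x ∈ ⋃ j, W j from hx)
      exact ((hZ j).subset hj).1
    · intro hx
      obtain ⟨i, hi⟩ := hcov x
      exact mem_iUnion.2 ⟨i, (hZ i).superset ⟨hx, hi⟩⟩
  · refine h.1 _ _ (isOpen_iUnion hO) isOpen_univ ?_
    rw [preimage_univ, eq_univ_iff_forall]
    exact fun x => mem_iUnion.2 (hcov x)

theorem IsQH.exists_isQC_preimage {f : X → Y} (h : IsQH f) {Z : Set X} (hZ : IsQC Z) : ∃ W, IsQC W ∧ f ⁻¹' W = Z := by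
  obtain ⟨T, hT, hT', rfl⟩ := hZ
  induction T, hT using Set.Finite.induction_on with
  | empty => exact ⟨∅, isQC_empty, by simp⟩
  | @insert a s _ _ ih =>
    obtain ⟨W, hW, hWs⟩ := ih fun t ht => hT' t (mem_insert_of_mem _ ht)
    obtain ⟨U, F, hU, hF, rfl⟩ := hT' a (mem_insert a s)
    obtain ⟨U', hU', rfl⟩ := h.2 U hU
    obtain ⟨G, hG, hGF⟩ := h.2 Fᶜ hF.isOpen_compl
    refine ⟨(U' ∩ Gᶜ) ∪ W, (isQC_of_isLocallyClosed ⟨U', Gᶜ, hU', hG.isClosed_compl, rfl⟩).union hW, ?_⟩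
    rw [preimage_union, preimage_inter, preimage_compl, hGF, compl_compl, hWs, sUnion_insert]

theorem IsQH.exists_isLQC_preimage {f : X → Y} (h : IsQH f) {Z : Set X} (hZ : IsLQC Z) :
    ∃ W, IsLQC W ∧ f ⁻¹' W = Z := by
  choose V hV hxV hVZ using hZ
  choose O hO hOV using fun x => h.2 (V x) (hV x)
  choose W hW hWV using fun x => h.exists_isQC_preimage (hVZ x)
  obtain ⟨h1, h2, h3⟩ := h.exists_glue (Z := Z) O (fun x => W x ∩ O x) hO (fun _ => inter_subset_right)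
    (fun x => (hW x).isLQC.inter (isLQC_of_isOpen (hO x)))
    (fun x => by rw [preimage_inter, hWV, hOV]; ext z; simp; tauto) (fun x => ⟨x, show x ∈ f ⁻¹' O x by rw [hOV]; exact hxV x⟩)
  refine ⟨_, fun y => ?_, h2⟩
  obtain ⟨i, hi⟩ := mem_iUnion.1 (h3.superset (mem_univ y))
  refine ⟨O i, hO i, hi, ?_⟩
  show IsQC _
  rw [inter_comm, h1 i]
  exact (hW i).inter (isQC_of_isLocallyClosed (hO i).isLocallyClosed)

theorem bijOn_preimage {f : X → Y} (h : IsQH f) (p : Set Y → Prop) (q : Set X → Prop)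
    (hp : ∀ Z, p Z → IsLQC Z) (hpq : ∀ Z, p Z → q (f ⁻¹' Z)) (hqp : ∀ Z, q Z → ∃ W, p W ∧ f ⁻¹' W = Z) :
    BijOn (fun Z => f ⁻¹' Z) {Z | p Z} {Z | q Z} :=
  ⟨fun Z hZ => hpq Z hZ, fun A hA B hB he => h.1.eq_of_preimage_eq (hp A hA) (hp B hB) he,
    fun Z hZ => let ⟨W, hW, hWZ⟩ := hqp Z hZ; ⟨W, hW, hWZ⟩⟩

theorem isQC_of_isConstructible {Z : Set X} (hZ : IsConstructible Z) : IsQC Z := by
  induction hZ using IsConstructible.empty_union_induction with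
  | open_retrocompact U ho _ => exact isQC_of_isLocallyClosed ho.isLocallyClosed
  | union s _ t _ h1 h2 => exact h1.union h2
  | compl s _ h => exact h.compl

theorem IsQH.isRetrocompact_preimage_iff {f : X → Y} (h : IsQH f) (hf : Continuous f) {O : Set Y} (hO : IsLQC O) :
    IsRetrocompact (f ⁻¹' O) ↔ IsRetrocompact O := by
  constructor
  · intro hr U hUc hUo
    rw [← h.isCompact_preimage_iff hf (hO.inter (isLQC_of_isOpen hUo)), preimage_inter]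
    exact hr ((h.isCompact_preimage_iff hf (isLQC_of_isOpen hUo)).2 hUc) (hUo.preimage hf)
  · intro hr V hVc hVo
    obtain ⟨U, hU, rfl⟩ := h.2 V hVo
    rw [← preimage_inter, h.isCompact_preimage_iff hf (hO.inter (isLQC_of_isOpen hU))]
    exact hr ((h.isCompact_preimage_iff hf (isLQC_of_isOpen hU)).1 hVc) hU

theorem IsQH.isConstructible_preimage {f : X → Y} (h : IsQH f) (hf : Continuous f) {Z : Set Y} (hZ : IsConstructible Z) :
    IsConstructible (f ⁻¹' Z) :=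
  hZ.preimage hf fun _ ht ht' => (h.isRetrocompact_preimage_iff hf (isLQC_of_isOpen ht)).2 ht'

theorem IsQH.exists_isConstructible_preimage {f : X → Y} (h : IsQH f) (hf : Continuous f) {Z : Set X}
    (hZ : IsConstructible Z) : ∃ W, IsConstructible W ∧ f ⁻¹' W = Z := by
  induction hZ using IsConstructible.empty_union_induction with
  | open_retrocompact U ho hc =>
    obtain ⟨O, hO, rfl⟩ := h.2 U ho
    exact ⟨O, IsRetrocompact.isConstructible hO ((h.isRetrocompact_preimage_iff hf (isLQC_of_isOpen hO)).1 hc), rfl⟩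
  | union s _ t _ h1 h2 =>
    obtain ⟨A, hA, rfl⟩ := h1
    obtain ⟨B, hB, rfl⟩ := h2
    exact ⟨A ∪ B, hA.union hB, rfl⟩
  | compl s _ h1 =>
    obtain ⟨A, hA, rfl⟩ := h1
    exact ⟨Aᶜ, hA.compl, rfl⟩

theorem isQC_image_val {V : Set X} (hV : IsOpen V) {Z : Set V} (hZ : IsQC Z) : IsQC (Subtype.val '' Z) := by
  obtain ⟨T, hT, hT', rfl⟩ := hZ
  refine ⟨(Subtype.val '' ·) '' T, hT.image _, ?_, by rw [image_sUnion]⟩
  rintro _ ⟨t, ht, rfl⟩
  obtain ⟨A, B, ⟨A', hA', rfl⟩, hB, rfl⟩ := hT' t ht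
  obtain ⟨B', hB', rfl⟩ := isClosed_induced_iff.1 hB
  refine ⟨A' ∩ V, B', hA'.inter hV, hB', ?_⟩
  ext x
  constructor
  · rintro ⟨⟨y, hy⟩, ⟨h1, h2⟩, rfl⟩; exact ⟨⟨h1, hy⟩, h2⟩
  · rintro ⟨⟨h1, hy⟩, h2⟩; exact ⟨⟨x, hy⟩, ⟨h1, h2⟩, rfl⟩

theorem isLQC_iff_subtype {Z : Set X} :
    IsLQC Z ↔ ∀ x : X, ∃ V : Set X, IsOpen V ∧ x ∈ V ∧
      ∃ T : Set (Set V), T.Finite ∧ (∀ t ∈ T, IsLocallyClosed t) ∧ (Subtype.val ⁻¹' Z : Set V) = ⋃₀ T := by
  refine forall_congr' fun x => exists_congr fun V => and_congr_right fun hV => and_congr_right fun _ => ⟨?_, ?_⟩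
  · intro h
    have := IsQC.preimage (X := V) continuous_subtype_val (h : IsQC (V ∩ Z))
    rwa [Subtype.preimage_coe_self_inter] at this
  · intro h
    have := isQC_image_val hV (h : IsQC (Subtype.val ⁻¹' Z : Set V))
    rwa [Subtype.image_preimage_coe] at this

theorem isLQC_of_isLocallyConstructible {Z : Set X} (hZ : IsLocallyConstructible Z) : IsLQC Z := by
  rw [isLQC_iff_subtype]
  intro x
  obtain ⟨V, hxV, hVo, hVZ⟩ := hZ x
  exact ⟨V, hVo, mem_of_mem_nhds hxV, isQC_of_isConstructible hVZ⟩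

theorem IsQH.isLocallyConstructible_preimage {f : X → Y} (h : IsQH f) (hf : Continuous f) {Z : Set Y}
    (hZ : IsLocallyConstructible Z) : IsLocallyConstructible (f ⁻¹' Z) := by
  intro x
  obtain ⟨V, hxV, hVo, hVZ⟩ := hZ (f x)
  exact ⟨f ⁻¹' V, hf.continuousAt.preimage_mem_nhds hxV, hVo.preimage hf,
    (h.restrict (isLQC_of_isOpen hVo)).isConstructible_preimage hf.restrictPreimage hVZ⟩

theorem IsQH.exists_isLocallyConstructible_preimage {f : X → Y} (h : IsQH f) (hf : Continuous f) {Z : Set X}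
    (hZ : IsLocallyConstructible Z) : ∃ W, IsLocallyConstructible W ∧ f ⁻¹' W = Z := by
  choose V hxV hVo hVZ using hZ
  choose O hO hOV using fun x => h.2 (V x) (hVo x)
  have hr : ∀ x, IsConstructible ((Subtype.val : (f ⁻¹' O x) → X) ⁻¹' Z) := fun x => by
    rw [hOV x]; exact hVZ x
  choose W hW hWZ using fun x => (h.restrict (isLQC_of_isOpen (hO x))).exists_isConstructible_preimage hf.restrictPreimage (hr x)
  have hW' : ∀ x, IsLQC (Subtype.val '' W x) := fun x => (isQC_image_val (hO x) (isQC_of_isConstructible (hW x))).isLQC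
  obtain ⟨h1, h2, h3⟩ := h.exists_glue (Z := Z) O (fun x => Subtype.val '' W x) hO
    (fun x => Subtype.coe_image_subset _ _) hW'
    (fun x => by
      ext z
      constructor
      · rintro ⟨⟨y, hy⟩, hyW, rfl : y = f z⟩
        exact ⟨(Set.ext_iff.1 (hWZ x) ⟨z, hy⟩).1 hyW, hy⟩
      · rintro ⟨hz, hzO⟩
        exact ⟨⟨f z, hzO⟩, (Set.ext_iff.1 (hWZ x) ⟨z, hzO⟩).2 hz, rfl⟩)
    (fun x => ⟨x, show x ∈ f ⁻¹' O x by rw [hOV]; exact mem_of_mem_nhds (hxV x)⟩)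
  refine ⟨_, fun y => ?_, h2⟩
  obtain ⟨i, hi⟩ := mem_iUnion.1 (h3.superset (mem_univ y))
  refine ⟨O i, (hO i).mem_nhds hi, hO i, ?_⟩
  have : (Subtype.val : O i → Y) ⁻¹' (⋃ j, Subtype.val '' W j) = W i := by
    rw [← Subtype.preimage_coe_inter_self, h1 i, preimage_image_eq _ Subtype.val_injective]
  rw [this]; exact hW i

end Groth.Agent.QHomeoLib
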